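/-
`Qd(p)` has non-commutative Sylow `p`-subgroups; hence groups with commutative Sylow `p`-subgroups do not involve it.
-/
import Mathlib
import Cfsg.Prelude.Def_LocalEven
import Cfsg.Prelude.Def_PLocal

set_option autoImplicit false

namespace Cfsg.Agent.Lib.Invol2.QdFree

open Matrix Cfsg

variable {p : ℕ} [Fact p.Prime]

/-- The upper unitriangular pattern. -/
def IsUni (g : Matrix (Fin 3) (Fin 3) (ZMod p)) : Prop :=
  g 0 0 = 1 ∧ g 1 1 = 1 ∧ g 2 2 = 1 ∧ g 1 0 = 0 ∧ g 2 0 = 0 ∧ g 2 1 = 0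

/-- The upper unitriangular subgroup of `SL₃(p)`. -/
def uniSL (p : ℕ) [Fact p.Prime] : Subgroup (Matrix.SpecialLinearGroup (Fin 3) (ZMod p)) where
  carrier := {g | IsUni (g : Matrix (Fin 3) (Fin 3) (ZMod p))}
  mul_mem' := by
    rintro a b ⟨h1, h2, h3, h4, h5, h6⟩ ⟨k1, k2, k3, k4, k5, k6⟩
    refine ⟨?_, ?_, ?_, ?_, ?_, ?_⟩ <;>
      simp [Matrix.mul_apply, Fin.sum_univ_three, h1, h2, h3, h4, h5, h6, k1, k2, k3, k4, k5, k6]
  one_mem' := by
    refine ⟨?_, ?_, ?_, ?_, ?_, ?_⟩ <;> simp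
  inv_mem' := by
    rintro a ⟨h1, h2, h3, h4, h5, h6⟩
    rw [Set.mem_ofPred_eq]
    rw [Matrix.SpecialLinearGroup.coe_inv, Matrix.adjugate_fin_three]
    refine ⟨?_, ?_, ?_, ?_, ?_, ?_⟩ <;>
      simp [h1, h2, h3, h4, h5, h6]

theorem uni_pow (g : Matrix.SpecialLinearGroup (Fin 3) (ZMod p)) (hp : p ≠ 2) (hg : g ∈ uniSL p) : g ^ p = 1 := by
  obtain ⟨h1, h2, h3, h4, h5, h6⟩ := hg
  have hp3 : 3 ≤ p := by
    have := (Fact.out : p.Prime).two_le
    omega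
  set M : Matrix (Fin 3) (Fin 3) (ZMod p) := (g : Matrix (Fin 3) (Fin 3) (ZMod p)) with hM
  set N : Matrix (Fin 3) (Fin 3) (ZMod p) := M - 1 with hN
  have hNN : N * N * N = 0 := by
    ext i j
    fin_cases i <;> fin_cases j <;>
      simp [hN, Matrix.mul_apply, Fin.sum_univ_three, h1, h2, h3, h4, h5, h6, Matrix.one_apply]
  have hpow : N ^ p = 0 := by
    obtain ⟨k, rfl⟩ : ∃ k, p = 3 + k := ⟨p - 3, by omega⟩
    rw [pow_add, pow_three, ← mul_assoc, hNN, zero_mul]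
  have hM2 : M = N + 1 := by simp [hN]
  have hpow2 : M ^ p = 1 := by
    rw [hM2]
    have hc : Commute N (1 : Matrix (Fin 3) (Fin 3) (ZMod p)) := Commute.one_right N
    rw [add_pow_char_of_commute p hc, hpow]
    simp
  apply Subtype.ext
  rw [Matrix.SpecialLinearGroup.coe_pow]
  exact hpow2

/-- The matrix `1 + E₀₁`. -/
def mX (p : ℕ) [Fact p.Prime] : Matrix.SpecialLinearGroup (Fin 3) (ZMod p) :=
  ⟨!![1, 1, 0; 0, 1, 0; 0, 0, 1], by simp [Matrix.det_fin_three]⟩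

/-- The matrix `1 + E₁₂`. -/
def mY (p : ℕ) [Fact p.Prime] : Matrix.SpecialLinearGroup (Fin 3) (ZMod p) :=
  ⟨!![1, 0, 0; 0, 1, 1; 0, 0, 1], by simp [Matrix.det_fin_three]⟩

theorem mX_mem : mX p ∈ qd p := by
  refine Subgroup.subset_closure ⟨?_, ?_, ?_⟩ <;> simp [mX]
theorem mY_mem : mY p ∈ qd p := by
  refine Subgroup.subset_closure ⟨?_, ?_, ?_⟩ <;> simp [mY]
theorem mX_uni : mX p ∈ uniSL p := by
  refine ⟨?_, ?_, ?_, ?_, ?_, ?_⟩ <;> simp [mX]
theorem mY_uni : mY p ∈ uniSL p := by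
  refine ⟨?_, ?_, ?_, ?_, ?_, ?_⟩ <;> simp [mY]

theorem mX_mY_ne : mX p * mY p ≠ mY p * mX p := by
  intro h
  have h2 := congrArg (fun g : Matrix.SpecialLinearGroup (Fin 3) (ZMod p) => (g : Matrix (Fin 3) (Fin 3) (ZMod p)) 0 2) h
  simp only [Matrix.SpecialLinearGroup.coe_mul] at h2
  simp [mX, mY, Matrix.mul_apply, Fin.sum_univ_three] at h2

/-- Some Sylow `p`-subgroup of `Qd(p)` is non-commutative. -/
theorem exists_sylow_not_comm (hp : p ≠ 2) : ∃ P : Sylow p (qd p), ¬ IsMulCommutative (P : Subgroup (qd p)) := by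
  let U : Subgroup (qd p) := (uniSL p).subgroupOf (qd p)
  have hU : IsPGroup p U := by
    intro g
    refine ⟨1, ?_⟩
    rw [pow_one]
    apply Subtype.ext
    apply Subtype.ext
    exact uni_pow _ hp g.2
  obtain ⟨P, hP⟩ := hU.exists_le_sylow
  refine ⟨P, ?_⟩
  rintro ⟨⟨hcomm⟩⟩
  have hX : (⟨mX p, mX_mem⟩ : qd p) ∈ (P : Subgroup (qd p)) := hP (Subgroup.mem_subgroupOf.mpr mX_uni)
  have hY : (⟨mY p, mY_mem⟩ : qd p) ∈ (P : Subgroup (qd p)) := hP (Subgroup.mem_subgroupOf.mpr mY_uni)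
  have h3 := hcomm ⟨_, hX⟩ ⟨_, hY⟩
  have h4 := congrArg (fun z : (P : Subgroup (qd p)) => (((z : qd p) : Matrix.SpecialLinearGroup (Fin 3) (ZMod p)))) h3
  exact mX_mY_ne h4

/-- Commutativity of one Sylow subgroup passes to all of them. -/
theorem sylow_comm_of_conj {G : Type*} [Group G] [Finite G] (S' : Sylow p G)
    (hS'c : ∀ x ∈ (S' : Subgroup G), ∀ y ∈ (S' : Subgroup G), x * y = y * x) (P : Sylow p G) :
    IsMulCommutative (P : Subgroup G) := by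
  obtain ⟨g, hg⟩ := MulAction.exists_smul_eq G S' P
  refine ⟨⟨?_⟩⟩
  rintro ⟨x, hx⟩ ⟨y, hy⟩
  apply Subtype.ext
  show x * y = y * x
  rw [← hg, Sylow.coe_subgroup_smul, Subgroup.mem_smul_pointwise_iff_exists] at hx hy
  obtain ⟨a, ha, rfl⟩ := hx
  obtain ⟨b, hb, rfl⟩ := hy
  simp only [MulAut.smul_def, MulAut.conj_apply]
  have h5 := hS'c a ha b hb
  group
  have h6 : g * a * b * g⁻¹ = g * b * a * g⁻¹ := by
    rw [mul_assoc g a b, h5, mul_assoc g b a]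
  simpa [mul_assoc] using h6

/-- A section of a group all of whose Sylow `p`-subgroups are commutative has the same property. -/
theorem not_involves_of_sylow_comm (hp : p ≠ 2) {G : Type*} [Group G] [Finite G]
    (hG : ∀ P : Sylow p G, IsMulCommutative (P : Subgroup G)) :
    ¬ Cfsg.Involves (qd p) G := by
  rintro ⟨K, R, hR, ⟨e⟩⟩
  obtain ⟨P, hP⟩ := exists_sylow_not_comm (p := p) hp
  -- surjection `K → qd p`
  let f : K →* qd p := e.toMonoidHom.comp (QuotientGroup.mk' (R.subgroupOf K))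
  have hf : Function.Surjective f := e.surjective.comp (QuotientGroup.mk'_surjective _)
  -- a Sylow in K
  let S : Sylow p K := Classical.arbitrary _
  have hS : IsPGroup p (S : Subgroup K) := S.isPGroup'
  have hSG : IsPGroup p ((S : Subgroup K).map K.subtype) := hS.map K.subtype
  obtain ⟨Q, hQ⟩ := hSG.exists_le_sylow
  have hQc := hG Q
  have hSc : ∀ x ∈ (S : Subgroup K), ∀ y ∈ (S : Subgroup K), x * y = y * x := by
    intro x hx y hy
    have hx' : (x : G) ∈ (Q : Subgroup G) := hQ ⟨x, hx, rfl⟩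
    have hy' : (y : G) ∈ (Q : Subgroup G) := hQ ⟨y, hy, rfl⟩
    obtain ⟨⟨hcomm⟩⟩ := hQc
    have := hcomm ⟨_, hx'⟩ ⟨_, hy'⟩
    apply Subtype.ext
    exact congrArg (fun z : (Q : Subgroup G) => (z : G)) this
  -- image
  let S' : Sylow p (qd p) := S.mapSurjective hf
  apply hP
  have hS'c : ∀ x ∈ (S' : Subgroup (qd p)), ∀ y ∈ (S' : Subgroup (qd p)), x * y = y * x := by
    rintro _ ⟨x, hx, rfl⟩ _ ⟨y, hy, rfl⟩
    rw [← map_mul, hSc x hx y hy, map_mul]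
  exact sylow_comm_of_conj S' hS'c P

end Cfsg.Agent.Lib.Invol2.QdFree
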